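import Cfsg.Agent.OddOrder.PF7.Pack
import Cfsg.Agent.Coherence.KernelNilpotent

/-!
# Peterfalvi (7.11) in terms of Frobenius groups

`hnil` is Thompson's theorem for an automorphism of prime order.
-/

set_option autoImplicit false
set_option linter.unusedSectionVars false

namespace CfsgLib.OddOrder

open Cfsg

universe u

/-- No group of odd order is covered by conjugates of TI Frobenius kernels of coprime orders, granted
that a group with a fixed-point-free automorphism of prime order is nilpotent. -/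
theorem no_frobenius_partition {G : Type u} [Group G] [Finite G] (hodd : Odd (Nat.card G))
    {ι : Type*} [Fintype ι] (hι : 2 ≤ Fintype.card ι) (L H : ι → Subgroup G) (hHL : ∀ i, H i < L i)
    (hH1 : ∀ i, H i ≠ ⊥) (hfrob : ∀ i, ∀ h ∈ H i, h ≠ 1 → L i ⊓ Subgroup.centralizer ({h} : Set G) ≤ H i)
    (hcop : ∀ i j, i ≠ j → Nat.Coprime (Nat.card (H i)) (Nat.card (H j)))
    (hTI : ∀ i, IsTISubset (H i : Set G) ∧ Subgroup.normalizer (H i : Set G) = L i)
    (hcover : ∀ g : G, g ≠ 1 → ∃ i, ∃ x : G, x * g * x⁻¹ ∈ H i)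
    (hnil : ∀ (K : Type u) [Group K] [Finite K] (φ : K ≃* K), MonoidHom.FixedPointFree (φ : K →* K) →
      ∀ p : ℕ, p.Prime → orderOf φ = p → Group.IsNilpotent K) : False := by
  classical
  haveI : Fintype G := Fintype.ofFinite G
  refine no_coherent_partition hodd hι L H (fun i => ?_) hcop hcover
  obtain ⟨hti, hN⟩ := hTI i
  haveI : ((H i).subgroupOf (L i)).Normal :=
    (Subgroup.normal_subgroupOf_iff_le_normalizer (hN ▸ Subgroup.le_normalizer)).2 hN.ge
  have hK1 : (H i).subgroupOf (L i) ≠ ⊥ := by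
    rw [ne_eq, Subgroup.subgroupOf_eq_bot, disjoint_iff, inf_eq_left.2 (hHL i).le]
    exact hH1 i
  have hKL : (H i).subgroupOf (L i) < ⊤ := by
    rw [lt_top_iff_ne_top, ne_eq, Subgroup.subgroupOf_eq_top]
    exact (hHL i).not_ge
  have hfix : ∀ k ∈ (H i).subgroupOf (L i), k ≠ 1 →
      Subgroup.centralizer ({k} : Set (L i)) ≤ (H i).subgroupOf (L i) := by
    intro k hk hk1 x hx
    refine Subgroup.mem_subgroupOf.2 (hfrob i k (Subgroup.mem_subgroupOf.1 hk)
      (fun h => hk1 (Subtype.ext h)) ⟨x.2, Subgroup.mem_centralizer_singleton_iff.2 ?_⟩)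
    exact congrArg Subtype.val (Subgroup.mem_centralizer_singleton_iff.1 hx)
  obtain ⟨φ, q, hq, hord, hfpf⟩ := CfsgLib.Coherence.frob_exists_fpf hK1 hKL.ne hfix
  exact exists_tiPack hodd hti hN hfix hK1 hKL (hnil _ φ hfpf q hq hord)

end CfsgLib.OddOrder
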