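import Cfsg.Agent.OddOrderChar.Clifford
import Cfsg.Agent.Characters.FixedPoints
import Cfsg.Agent.Coherence.Induced

/-!
# Characters of a Frobenius group that are non-trivial on the kernel (Peterfalvi section 7)

`K` is a normal subgroup containing the centraliser of each of its non-identity elements.  A
non-principal irreducible character of `K` has inertia group `K`, so it induces irreducibly, and
every irreducible character of the group non-trivial on `K` arises in this way.
-/

set_option autoImplicit false
set_option linter.style.haveILetI false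
set_option linter.unusedSectionVars false

namespace CfsgLib.OddOrder

open Cfsg
open CfsgLib.Characters CfsgLib.OddOrderChar

variable {L : Type*} [Group L] [Fintype L] (K : Subgroup L) [hK : K.Normal] [Fintype K]

/-- Only elements of a Frobenius kernel fix a non-principal irreducible character of it. -/
theorem frobenius_inertia (hC : ∀ n ∈ K, n ≠ 1 → Subgroup.centralizer ({n} : Set L) ≤ K)
    {θ : K → ℂ} (hθ : IsIrrCharacter K θ) (hne : θ ≠ fun _ => 1) {g : L}
    (hg : conjBy K θ g = θ) : g ∈ K := by
  classical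
  by_contra hgK
  have h := card_fixed_irr_mulEquiv (MulAut.conjNormal (H := K) g : K ≃* K)
  have hle : Nat.card {C : ConjClasses K //
      ConjClasses.map (MulAut.conjNormal (H := K) g : K ≃* K).toMonoidHom C = C} ≤ 1 := by
    have hone : ∀ C : ConjClasses K,
        ConjClasses.map (MulAut.conjNormal (H := K) g : K ≃* K).toMonoidHom C = C →
          C = ConjClasses.mk 1 := by
      intro C hC'
      obtain ⟨n, rfl⟩ := ConjClasses.mk_surjective C
      by_contra hn
      have hn1 : (n : L) ≠ 1 := fun h => hn (by rw [show n = 1 from Subtype.ext (by simpa using h)])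
      change ConjClasses.mk (MulAut.conjNormal (H := K) g n) = ConjClasses.mk n at hC'
      obtain ⟨c, hc⟩ := isConj_iff.mp (ConjClasses.mk_eq_mk_iff_isConj.mp hC')
      have hc' : (c : L) * (g * n * g⁻¹) * (c : L)⁻¹ = n := by
        have := congrArg (Subtype.val) hc
        simpa using this
      have hmem : (c : L) * g ∈ Subgroup.centralizer ({(n : L)} : Set L) := by
        rw [Subgroup.mem_centralizer_singleton_iff]
        calc (c : L) * g * n = (c : L) * (g * n * g⁻¹) * (c : L)⁻¹ * ((c : L) * g) := by group
          _ = (n : L) * ((c : L) * g) := by rw [hc']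
      exact hgK (by simpa using K.mul_mem (K.inv_mem c.2) (hC _ n.2 hn1 hmem))
    rw [Finite.card_le_one_iff_subsingleton]
    exact ⟨fun a b => Subtype.ext ((hone a a.2).trans (hone b b.2).symm)⟩
  have hge : 1 < Nat.card {χ : IrrCharacter K //
      (χ : K → ℂ) ∘ (MulAut.conjNormal (H := K) g : K ≃* K) = (χ : K → ℂ)} := by
    rw [Finite.one_lt_card_iff_nontrivial]
    refine ⟨⟨⟨θ, hθ⟩, ?_⟩, ⟨⟨fun _ => 1, isIrr_one⟩, rfl⟩, fun h => hne ?_⟩
    · have := hg
      rw [conjBy_eq_comp] at this
      exact this
    · exact congrArg (fun x => (x.1 : K → ℂ)) h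
  omega

/-- A non-principal irreducible character of a Frobenius kernel has norm one after induction. -/
theorem frobenius_ind_norm (hC : ∀ n ∈ K, n ≠ 1 → Subgroup.centralizer ({n} : Set L) ≤ K)
    {θ : K → ℂ} (hθ : IsIrrCharacter K θ) (hne : θ ≠ fun _ => 1) :
    classInner (indFun K θ) (indFun K θ) = 1 := by
  rw [CfsgLib.Coherence.ci_ind_self K hθ, CfsgLib.Coherence.stabCard]
  have : Nat.card {g : L // conjBy K θ g = θ} = Nat.card K := by
    refine Nat.card_congr (Equiv.subtypeEquivRight fun g => ⟨frobenius_inertia K hC hθ hne, fun hg => ?_⟩)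
    funext h
    have h2 := isClassFunction_of_isIrr hθ h ⟨g, hg⟩
    rw [← h2, conjBy_apply]
    rfl
  rw [this, div_self (Nat.cast_ne_zero.mpr Nat.card_pos.ne')]

/-- A non-principal irreducible character of a Frobenius kernel induces irreducibly. -/
theorem frobenius_ind_irr (hC : ∀ n ∈ K, n ≠ 1 → Subgroup.centralizer ({n} : Set L) ≤ K)
    {θ : K → ℂ} (hθ : IsIrrCharacter K θ) (hne : θ ≠ fun _ => 1) :
    IsIrrCharacter L (indFun K θ) :=
  isIrr_of_classInner_self (CfsgLib.OddOrderChar.isCharacter_indFun K (isCharacter_of_isIrr hθ))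
    (frobenius_ind_norm K hC hθ hne)

/-- An irreducible character non-trivial on a Frobenius kernel is induced from it. -/
theorem frobenius_eq_ind (hC : ∀ n ∈ K, n ≠ 1 → Subgroup.centralizer ({n} : Set L) ≤ K)
    {χ : L → ℂ} (hχ : IsIrrCharacter L χ) (hker : ∃ n ∈ K, χ n ≠ χ 1) :
    ∃ θ : K → ℂ, IsIrrCharacter K θ ∧ θ ≠ (fun _ => 1) ∧ χ = indFun K θ := by
  classical
  have hres := isCharacter_restrict K (isCharacter_of_isIrr hχ)
  have h0 : (fun k : K => χ k) ≠ 0 := fun h => by
    have := congrFun h 1
    exact irr_one_ne_zero hχ (by simpa using this)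
  obtain ⟨θ, hθ, hθχ⟩ := CfsgLib.OddOrderChar.exists_constituent hres h0
  have hne : θ ≠ fun _ => 1 := by
    intro h
    obtain ⟨n, hn, hnχ⟩ := hker
    have hr := clifford_restrict K hχ hθ hθχ
    have horb : conjOrbit K θ = {θ} := by
      ext ψ
      rw [mem_conjOrbit, Finset.mem_singleton]
      subst h
      exact ⟨fun ⟨g, hg⟩ => hg ▸ rfl, fun hψ => ⟨1, hψ ▸ conjBy_one K _⟩⟩
    rw [horb, Finset.sum_singleton] at hr
    refine hnχ ?_
    have h1 := congrFun hr ⟨n, hn⟩
    have h2 := congrFun hr 1
    subst h
    simp only [Pi.smul_apply, smul_eq_mul, mul_one, OneMemClass.coe_one] at h1 h2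
    rw [h1, h2]
  refine ⟨θ, hθ, hne, ?_⟩
  by_contra hχθ
  have := classInner_isIrr_ne (frobenius_ind_irr K hC hθ hne) hχ (Ne.symm hχθ)
  rw [CfsgLib.OddOrderChar.classInner_indFun_left K θ (isClassFunction_of_isIrr hχ),
    classInner_conj_symm, map_eq_zero] at this
  exact hθχ this

end CfsgLib.OddOrder
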