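import Cfsg.Agent.OddOrderChar.DadeIsometry
import Mathlib.Algebra.Order.Chebyshev

/-!
# The norm inequality on a Dade support (Peterfalvi (7.2))
-/

set_option autoImplicit false
set_option linter.unusedSectionVars false

namespace CfsgLib.OddOrder

open Cfsg CfsgLib.OddOrderChar
open scoped ComplexConjugate

variable {G : Type*} [Group G] [Fintype G] {A : Set G} {L : Subgroup G} [Fintype L] {H : G → Subgroup G}

open Classical in
/-- The mass of `|χ|²` on the Dade support, coset by coset. -/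
theorem dade_support_normSq (hD : DadeHypothesis A L H) {χ : G → ℂ} (hχ : IsClassFunction G χ) :
    (Nat.card G : ℝ)⁻¹ *
        ∑ᶠ g ∈ {g : G | ∃ a ∈ A, ∃ u ∈ H a, ∃ x : G, x * g * x⁻¹ = a * u}, ‖χ g‖ ^ 2 =
      (Nat.card L : ℝ)⁻¹ * ∑ a : {a : L // (a : G) ∈ A},
        (Nat.card (H (a.1 : G)) : ℝ)⁻¹ * ∑ u : H (a.1 : G), ‖χ ((a.1 : G) * u)‖ ^ 2 := by
  set S := {g : G | ∃ a ∈ A, ∃ u ∈ H a, ∃ x : G, x * g * x⁻¹ = a * u}
  have h := dade_sum_support hD (fun g => if g ∈ S then ((‖χ g‖ ^ 2 : ℝ) : ℂ) else 0) fun g hg => by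
    refine if_neg ?_
    rintro ⟨a, ha, u, hu, x, hx⟩
    exact hg ⟨⟨a, hD.subset ha⟩, ha, x, u, hu, hx⟩
  have hS : ∀ (a : {a : L // (a : G) ∈ A}) (u : H (a.1 : G)) (y : G),
      y * ((a.1 : G) * u) * y⁻¹ ∈ S := fun a u y => ⟨a.1, a.2, u, u.2, y⁻¹, by group⟩
  have hχ' : ∀ g y : G, χ (y * g * y⁻¹) = χ g := hχ
  have hin : ∀ a : {a : L // (a : G) ∈ A},
      (∑ p : ↥(H (a.1 : G)) × G, if p.2 * ((a.1 : G) * p.1) * p.2⁻¹ ∈ S then
          ((‖χ (p.2 * ((a.1 : G) * p.1) * p.2⁻¹)‖ ^ 2 : ℝ) : ℂ) else 0) =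
        (Nat.card G : ℂ) * ∑ u : H (a.1 : G), ((‖χ ((a.1 : G) * u)‖ ^ 2 : ℝ) : ℂ) := by
    intro a
    simp only [hS, if_true, hχ', Fintype.sum_prod_type, Finset.sum_const, Finset.card_univ,
      nsmul_eq_mul, Finset.mul_sum, Fintype.card_eq_nat_card]
  rw [← Finset.sum_filter] at h
  simp only [hin] at h
  rw [finsum_mem_eq_finite_toFinset_sum _ (Set.toFinite S)]
  have hf : (Set.toFinite S).toFinset = Finset.univ.filter (fun g => g ∈ S) := by ext g; simp [S]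
  rw [hf]
  apply Complex.ofReal_injective
  push_cast
  push_cast at h
  rw [h, Finset.mul_sum, Finset.mul_sum]
  refine Finset.sum_congr rfl fun a _ => ?_
  have hG : (Nat.card G : ℂ) ≠ 0 := Nat.cast_ne_zero.mpr Nat.card_pos.ne'
  field_simp

open Classical in
/-- Peterfalvi (7.2): the averages over the cosets have at most that mass. -/
theorem dade_norm_inequality (hD : DadeHypothesis A L H) {χ : G → ℂ} (hχ : IsClassFunction G χ)
    {ψ : L → ℂ}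
    (hψ : ∀ a : L, (a : G) ∈ A → ψ a = (Nat.card (H a) : ℂ)⁻¹ * ∑ᶠ u ∈ (H a : Set G), χ (a * u)) :
    (Nat.card L : ℝ)⁻¹ * ∑ᶠ a ∈ {a : L | (a : G) ∈ A}, ‖ψ a‖ ^ 2 ≤
      (Nat.card G : ℝ)⁻¹ *
        ∑ᶠ g ∈ {g : G | ∃ a ∈ A, ∃ u ∈ H a, ∃ x : G, x * g * x⁻¹ = a * u}, ‖χ g‖ ^ 2 := by
  rw [dade_support_normSq hD hχ]
  refine mul_le_mul_of_nonneg_left ?_ (by positivity)
  rw [finsum_mem_eq_finite_toFinset_sum _ (Set.toFinite _),
    Finset.sum_subtype (p := fun a : L => (a : G) ∈ A) _ (by simp)]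
  refine Finset.sum_le_sum fun a _ => ?_
  have hu : ∑ᶠ u ∈ (H (a.1 : G) : Set G), χ ((a.1 : G) * u) =
      ∑ u : ↥(H (a.1 : G)), χ ((a.1 : G) * u) := by
    rw [finsum_mem_eq_finite_toFinset_sum _ (Set.toFinite _)]
    exact Finset.sum_subtype _ (by simp) _
  rw [hψ a.1 a.2, hu, norm_mul, norm_inv, Complex.norm_natCast, mul_pow]
  set n : ℝ := (Nat.card (H (a.1 : G)) : ℝ) with hn
  have hnpos : 0 < n := by rw [hn]; exact_mod_cast Nat.card_pos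
  have hcs := sq_sum_le_card_mul_sum_sq (s := (Finset.univ : Finset (H (a.1 : G))))
    (f := fun u => ‖χ ((a.1 : G) * u)‖)
  rw [Finset.card_univ, Fintype.card_eq_nat_card, ← hn] at hcs
  calc n⁻¹ ^ 2 * ‖∑ u : ↥(H (a.1 : G)), χ ((a.1 : G) * u)‖ ^ 2
      ≤ n⁻¹ ^ 2 * (∑ u : ↥(H (a.1 : G)), ‖χ ((a.1 : G) * u)‖) ^ 2 := by
        gcongr; exact norm_sum_le _ _
    _ ≤ n⁻¹ ^ 2 * (n * ∑ u : ↥(H (a.1 : G)), ‖χ ((a.1 : G) * u)‖ ^ 2) :=
        mul_le_mul_of_nonneg_left hcs (by positivity)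
    _ = n⁻¹ * ∑ u : ↥(H (a.1 : G)), ‖χ ((a.1 : G) * u)‖ ^ 2 := by field_simp

end CfsgLib.OddOrder
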