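import Cfsg.Agent.OddOrder.PF7.Parity
import Cfsg.Agent.OddOrder.PF7.Frobenius
import Cfsg.Agent.Coherence.TIInduction

/-!
# A coherent TI Frobenius kernel (Peterfalvi (7.7)-(7.8))

`K = H.subgroupOf L` is a Frobenius kernel of `L = N(H)`, `H#` is TI and the characters of `L` induced
from the non-principal irreducible characters of `K` are coherent, with extension `f`.
`beta ζ` is the function induced from `1_K^L - ζ`.
-/

set_option autoImplicit false
set_option linter.unusedSectionVars false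

namespace CfsgLib.OddOrder

open Cfsg ComplexConjugate CfsgLib.Characters CfsgLib.Coherence

universe u

variable {G : Type u} [Group G] [Fintype G] {H L : Subgroup G} [Fintype L]

noncomputable local instance fintypeSubPF7 (M : Subgroup L) : Fintype M := Fintype.ofFinite M

/-- The data of a coherent TI Frobenius kernel. -/
structure TIPack (H L : Subgroup G) [Fintype L] (F : Finset (L → ℂ))
    (f : (L → ℂ) → (G → ℂ)) : Prop where
  ti : IsTISubset (H : Set G)
  norm : Subgroup.normalizer (H : Set G) = L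
  oddG : Odd (Nat.card G)
  fix : ∀ k ∈ H.subgroupOf L, k ≠ 1 → Subgroup.centralizer ({k} : Set L) ≤ H.subgroupOf L
  ne_bot : H.subgroupOf L ≠ ⊥
  lt_top : H.subgroupOf L < ⊤
  mem : (↑F : Set (L → ℂ)) = inducedIrrAbove (H.subgroupOf L) ⊥
  gen : ∀ χ ∈ F, IsGeneralizedCharacter G (f χ)
  inner : ∀ χ ∈ F, ∀ φ ∈ F, classInner (f χ) (f φ) = classInner χ φ
  agree : ∀ χ ∈ F, ∀ φ ∈ F, φ 1 • f χ - χ 1 • f φ = indFun L (φ 1 • χ - χ 1 • φ)

/-- The function induced from `1_K^L - ζ`. -/
noncomputable def beta (H L : Subgroup G) [Fintype L] (ζ : L → ℂ) : G → ℂ :=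
  indFun L (indFun (H.subgroupOf L) (fun _ => 1) - ζ)

omit [Fintype L] in
/-- A function induced from functions supported on `H#` vanishes at elements without conjugates there. -/
theorem ind_vanish {α : L → ℂ} (hs : ∀ x : L, (x : G) ∉ H → α x = 0) (h1 : α 1 = 0) {u : G}
    (hu : ∀ g : G, g⁻¹ * u * g ∈ H → g⁻¹ * u * g = 1) : indFun L α u = 0 := by
  unfold indFun
  rw [Finset.sum_eq_zero, mul_zero]
  intro g _
  by_cases hg : g⁻¹ * u * g ∈ L
  · rw [OddOrderChar.extendByZero_of_mem L α hg]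
    by_cases hH : g⁻¹ * u * g ∈ H
    · rw [show (⟨g⁻¹ * u * g, hg⟩ : L) = 1 from Subtype.ext (hu g hH), h1]
    · exact hs _ hH
  · exact OddOrderChar.extendByZero_of_notMem L α hg

omit [Fintype L] in
/-- Conjugation commutes with induction. -/
theorem conjFun_indFun (L : Subgroup G) (α : L → ℂ) : conjFun (indFun L α) = indFun L (conjFun α) := by
  funext g
  simp only [conjFun, indFun, map_mul, map_inv₀, Complex.conj_natCast, map_sum]
  congr 1
  refine Finset.sum_congr rfl fun x _ => ?_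
  by_cases h : x⁻¹ * g * x ∈ L
  · rw [OddOrderChar.extendByZero_of_mem L α h, OddOrderChar.extendByZero_of_mem L _ h]; rfl
  · rw [OddOrderChar.extendByZero_of_notMem L α h, OddOrderChar.extendByZero_of_notMem L _ h, map_zero]

namespace TIPack

variable {F : Finset (L → ℂ)} {f : (L → ℂ) → (G → ℂ)} (h : TIPack H L F f)
include h

theorem le : H ≤ L := h.norm ▸ Subgroup.le_normalizer

theorem normal : (H.subgroupOf L).Normal :=
  (Subgroup.normal_subgroupOf_iff_le_normalizer h.le).2 h.norm.ge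

theorem oddL : Odd (Nat.card L) := h.oddG.of_dvd_nat L.card_subgroup_dvd_card

theorem irr {φ : L → ℂ} (hφ : φ ∈ F) : IsIrrCharacter L φ := by
  haveI := h.normal
  exact frob_irr h.fix φ (h.mem ▸ Finset.mem_coe.2 hφ)

theorem conj_mem {φ : L → ℂ} (hφ : φ ∈ F) : conjFun φ ∈ F := by
  haveI := h.normal
  exact Finset.mem_coe.1 (h.mem ▸ conj_mem_inducedIrrAbove _ (h.mem ▸ Finset.mem_coe.2 hφ))

theorem conj_ne {φ : L → ℂ} (hφ : φ ∈ F) : conjFun φ ≠ φ := by
  haveI := h.normal
  exact frob_conj_ne h.fix h.oddL h.lt_top φ (h.mem ▸ Finset.mem_coe.2 hφ)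

theorem supp {φ : L → ℂ} (hφ : φ ∈ F) {x : L} (hx : (x : G) ∉ H) : φ x = 0 := by
  haveI := h.normal
  obtain ⟨θ, -, -, -, rfl⟩ := (h.mem ▸ Finset.mem_coe.2 hφ : φ ∈ inducedIrrAbove (H.subgroupOf L) ⊥)
  exact OddOrderChar.indFun_normal_eq_zero _ θ fun hk => hx (Subgroup.mem_subgroupOf.1 hk)

theorem ci_one {φ : L → ℂ} (hφ : φ ∈ F) : classInner φ (fun _ => 1) = 0 := by
  refine classInner_isIrr_ne (h.irr hφ) Characters.isIrr_one fun he => h.conj_ne hφ ?_
  rw [he]; funext x; simp [conjFun]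

theorem ci_irr {φ ψ : L → ℂ} (hφ : φ ∈ F) (hψ : ψ ∈ F) [Decidable (φ = ψ)] :
    classInner φ ψ = if φ = ψ then 1 else 0 :=
  Coherence.ci_irr (h.irr hφ) (h.irr hψ)

theorem signed {φ : L → ℂ} (hφ : φ ∈ F) : IsIrrCharacter G (f φ) ∨ IsIrrCharacter G (-f φ) :=
  Coherence.gen_norm_one (h.gen φ hφ) (by rw [h.inner φ hφ φ hφ, classInner_isIrr_self (h.irr hφ)])

theorem sub_conj {φ : L → ℂ} (hφ : φ ∈ F) :
    f φ - f (conjFun φ) = indFun L (φ - conjFun φ) := by
  obtain ⟨n, hn0, hn⟩ := exists_degree_pos (h.irr hφ)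
  have hc : conjFun φ 1 = (n : ℂ) := Coherence.conjFun_one hn
  have h1 := h.agree φ hφ _ (h.conj_mem hφ)
  rw [hc, hn, ← smul_sub, ← smul_sub, Characters.indFun_smul] at h1
  exact smul_right_injective (G → ℂ) (Nat.cast_ne_zero.2 hn0.ne') h1

/-- The images are orthogonal to the principal character. -/
theorem f_ci_one {φ : L → ℂ} (hφ : φ ∈ F) : classInner (f φ) (fun _ => 1) = 0 := by
  classical
  have hd : classInner (f φ) (fun _ => 1) = classInner (f (conjFun φ)) (fun _ => 1) := by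
    rw [← sub_eq_zero, ← ci_sub_left, h.sub_conj hφ,
      OddOrderChar.classInner_indFun_left L _ (χ := fun _ : G => (1 : ℂ)) (fun _ _ => rfl),
      ci_sub_left, h.ci_one hφ, h.ci_one (h.conj_mem hφ), sub_zero]
  by_contra hne
  have hone : IsIrrCharacter G (fun _ => (1 : ℂ)) ∨ IsIrrCharacter G (-fun _ : G => (1 : ℂ)) :=
    Or.inl Characters.isIrr_one
  obtain ⟨ε, hε, he⟩ := Coherence.classInner_signed (h.signed hφ) hone hne
  have h0 := h.inner φ hφ _ (h.conj_mem hφ)
  rw [classInner_isIrr_ne (h.irr hφ) (h.irr (h.conj_mem hφ)) (h.conj_ne hφ).symm] at h0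
  apply hne
  rw [hd, he, ci_smul_right, ← ci_conj (f φ), h0, map_zero, mul_zero]

/-- The extension commutes with complex conjugation. -/
theorem f_conj {φ : L → ℂ} (hφ : φ ∈ F) : conjFun (f φ) = f (conjFun φ) := by
  classical
  set a := f φ
  set b := f (conjFun φ)
  have hab := h.sub_conj hφ
  have hc : conjFun a - conjFun b = b - a := by
    have h1 : conjFun (a - b) = conjFun a - conjFun b := by funext g; simp [conjFun]
    rw [← h1, hab, conjFun_indFun]
    have h2 : conjFun (φ - conjFun φ) = -(φ - conjFun φ) := by funext x; simp [conjFun]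
    rw [h2, ← neg_one_smul ℂ (φ - conjFun φ), Characters.indFun_smul, neg_one_smul, ← hab, neg_sub]
  have hb := ci_conj_self_eq_zero h.oddG (h.signed (h.conj_mem hφ)) (h.f_ci_one (h.conj_mem hφ))
  have hbb : classInner b b = 1 := by
    rw [h.inner _ (h.conj_mem hφ) _ (h.conj_mem hφ), classInner_isIrr_self (h.irr (h.conj_mem hφ))]
  have haa : classInner a a = 1 := by rw [h.inner _ hφ _ hφ, classInner_isIrr_self (h.irr hφ)]
  have hab0 : classInner a b = 0 := by
    rw [h.inner _ hφ _ (h.conj_mem hφ),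
      classInner_isIrr_ne (h.irr hφ) (h.irr (h.conj_mem hφ)) (h.conj_ne hφ).symm]
  have h3 : classInner (conjFun a) b = 1 := by
    have h4 := congrArg (fun z => classInner z b) hc
    simp only [ci_sub_left, hbb, hab0, sub_zero] at h4
    linear_combination h4 + hb
  rw [← sub_eq_zero]
  refine ci_self_eq_zero_iff.1 ?_
  rw [ci_sub_left, ci_sub_right, ci_sub_right, ci_conjFun, haa, hbb, h3, ← ci_conj (conjFun a) b, h3,
    map_one, sub_self]

/-- Induction is an isometry on functions supported on `H#`. -/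
theorem ind_inner {a b : L → ℂ} (hb : IsClassFunction L b) (hsa : ∀ x : L, (x : G) ∉ H → a x = 0)
    (hsb : ∀ x : L, (x : G) ∉ H → b x = 0) (hb1 : b 1 = 0) :
    classInner (indFun L a) (indFun L b) = classInner a b := by
  classical
  rw [OddOrderChar.classInner_indFun_left L a (Characters.isClassFunction_indFun L b)]
  simp only [classInner]
  congr 1
  refine Finset.sum_congr rfl fun x _ => ?_
  by_cases hx : (x : G) ∈ H
  · rw [ti_ind_apply h.ti h.norm hb hsb hb1 x hx]
  · rw [hsa x hx, zero_mul, zero_mul]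

/-! ### The function `1_K^L - ζ` -/

variable {ζ : L → ℂ}

theorem alpha_one (hdeg : ζ 1 = ((H.subgroupOf L).index : ℂ)) :
    (indFun (H.subgroupOf L) (fun _ => 1) - ζ) 1 = 0 := by
  rw [Pi.sub_apply, Characters.indFun_one, hdeg, mul_one, sub_self]

theorem alpha_supp (hζ : ζ ∈ F) (x : L) (hx : (x : G) ∉ H) :
    (indFun (H.subgroupOf L) (fun _ => 1) - ζ) x = 0 := by
  haveI := h.normal
  rw [Pi.sub_apply, OddOrderChar.indFun_normal_eq_zero _ _ fun hk => hx (Subgroup.mem_subgroupOf.1 hk),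
    h.supp hζ hx, sub_self]

theorem alpha_gen (hζ : ζ ∈ F) :
    IsGeneralizedCharacter L (indFun (H.subgroupOf L) (fun _ => 1) - ζ) :=
  Coherence.isGen_sub (Coherence.isGen_of_isCharacter
    (OddOrderChar.isCharacter_indFun _ (isCharacter_of_isIrr Characters.isIrr_one)))
    (Coherence.isGen_of_isIrr (h.irr hζ))

theorem ci_indOne_mem {φ : L → ℂ} (hφ : φ ∈ F) :
    classInner (indFun (H.subgroupOf L) (fun _ => 1)) φ = 0 := by
  haveI := h.normal
  obtain ⟨θ, hθ, hθ1, -, rfl⟩ := (h.mem ▸ Finset.mem_coe.2 hφ : φ ∈ inducedIrrAbove (H.subgroupOf L) ⊥)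
  refine OddOrderChar.classInner_ind_ind_eq_zero _ hθ Characters.isIrr_one fun g hg => ?_
  exact conjBy_ne_principal _ hθ1 g hg.symm

theorem ci_alpha_mem (hζ : ζ ∈ F) {φ : L → ℂ} (hφ : φ ∈ F) [Decidable (ζ = φ)] :
    classInner (indFun (H.subgroupOf L) (fun _ => 1) - ζ) φ = -(if ζ = φ then 1 else 0) := by
  rw [ci_sub_left, h.ci_indOne_mem hφ, h.ci_irr hζ hφ, zero_sub]

theorem ci_alpha_one (hζ : ζ ∈ F) :
    classInner (indFun (H.subgroupOf L) (fun _ => 1) - ζ) (fun _ => 1) = 1 := by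
  rw [ci_sub_left, h.ci_one hζ, sub_zero,
    OddOrderChar.classInner_indFun_left _ _ (χ := fun _ : L => (1 : ℂ)) (fun _ _ => rfl),
    classInner_isIrr_self Characters.isIrr_one]

theorem ci_alpha_self (hζ : ζ ∈ F) :
    classInner (indFun (H.subgroupOf L) (fun _ => 1) - ζ)
      (indFun (H.subgroupOf L) (fun _ => 1) - ζ) = ((H.subgroupOf L).index : ℂ) + 1 := by
  classical
  haveI := h.normal
  have h1 := Coherence.ci_ind_self (H.subgroupOf L) (θ := fun _ => (1 : ℂ)) Characters.isIrr_one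
  have hs : stabCard (H.subgroupOf L) (fun _ => (1 : ℂ)) = Nat.card L :=
    Nat.card_congr (Equiv.subtypeUnivEquiv fun g => conjBy_principal _ g)
  rw [hs, ← (H.subgroupOf L).index_mul_card, Nat.cast_mul,
    mul_div_assoc, div_self natCard_ne_zero, mul_one] at h1
  rw [ci_sub_left, ci_sub_right, ci_sub_right, h1, h.ci_indOne_mem hζ,
    ← ci_conj (indFun (H.subgroupOf L) fun _ => 1) ζ, h.ci_indOne_mem hζ, map_zero,
    classInner_isIrr_self (h.irr hζ)]
  ring

theorem beta_gen (hζ : ζ ∈ F) : IsGeneralizedCharacter G (beta H L ζ) :=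
  Characters.isGen_indFun L (h.alpha_gen hζ)

theorem beta_self (hζ : ζ ∈ F) (hdeg : ζ 1 = ((H.subgroupOf L).index : ℂ)) :
    classInner (beta H L ζ) (beta H L ζ) = ((H.subgroupOf L).index : ℂ) + 1 := by
  rw [beta, h.ind_inner (Coherence.isClassFunction_of_isGen (h.alpha_gen hζ)) (h.alpha_supp hζ)
    (h.alpha_supp hζ) (h.alpha_one hdeg), h.ci_alpha_self hζ]

theorem beta_one (hζ : ζ ∈ F) : classInner (beta H L ζ) (fun _ => 1) = 1 := by
  rw [beta, OddOrderChar.classInner_indFun_left L _ (χ := fun _ : G => (1 : ℂ)) (fun _ _ => rfl)]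
  exact h.ci_alpha_one hζ

/-- `beta ζ + f ζ` is real. -/
theorem beta_add_real (hζ : ζ ∈ F) : conjFun (beta H L ζ + f ζ) = beta H L ζ + f ζ := by
  have h1 : conjFun (beta H L ζ + f ζ) = conjFun (beta H L ζ) + conjFun (f ζ) := by
    funext g; simp [conjFun]
  have h2 : conjFun (beta H L ζ) = beta H L ζ + indFun L (ζ - conjFun ζ) := by
    rw [beta, conjFun_indFun, ← Characters.indFun_add]
    congr 1
    have h3 : conjFun (indFun (H.subgroupOf L) fun _ => (1 : ℂ)) = indFun (H.subgroupOf L) fun _ => 1 := by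
      rw [conjFun_indFun]
      congr 1
      funext x; simp [conjFun]
    funext x
    have h4 := congrFun h3 x
    simp only [conjFun] at h4
    simp only [conjFun, Pi.sub_apply, Pi.add_apply, map_sub, h4]
    ring
  rw [h1, h2, h.f_conj hζ, ← h.sub_conj hζ]
  abel

/-- Multiplicities of the images in `beta ζ`. -/
theorem beta_coef (hζ : ζ ∈ F) (hdeg : ζ 1 = ((H.subgroupOf L).index : ℂ)) {φ : L → ℂ} (hφ : φ ∈ F)
    [Decidable (ζ = φ)] :
    ((H.subgroupOf L).index : ℂ) * classInner (beta H L ζ) (f φ) =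
      φ 1 * (classInner (beta H L ζ) (f ζ) + 1) -
        ((H.subgroupOf L).index : ℂ) * (if ζ = φ then 1 else 0) := by
  classical
  obtain ⟨n, -, hn⟩ := exists_degree_pos (h.irr hφ)
  have hcl : IsClassFunction L (ζ 1 • φ - φ 1 • ζ) := fun x y => by
    simp [isClassFunction_of_isIrr (h.irr hφ) x y, isClassFunction_of_isIrr (h.irr hζ) x y]
  have h1 : classInner (beta H L ζ) (indFun L (ζ 1 • φ - φ 1 • ζ)) =
      classInner (indFun (H.subgroupOf L) (fun _ => 1) - ζ) (ζ 1 • φ - φ 1 • ζ) := by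
    refine h.ind_inner hcl (h.alpha_supp hζ) (fun x hx => ?_) (by simp [mul_comm])
    simp [h.supp hφ hx, h.supp hζ hx]
  rw [← h.agree φ hφ ζ hζ, ci_sub_right, ci_sub_right, ci_smul_right, ci_smul_right, ci_smul_right,
    ci_smul_right, h.ci_alpha_mem hζ hφ, h.ci_alpha_mem hζ hζ, if_pos rfl, hdeg, hn,
    Complex.conj_natCast, Complex.conj_natCast] at h1
  rw [hn]
  linear_combination h1

/-- The sum of the squared degrees. -/
theorem sum_deg_sq :
    ∑ φ ∈ F, φ 1 ^ 2 = ((H.subgroupOf L).index : ℂ) * ((Nat.card H : ℂ) - 1) := by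
  haveI := h.normal
  have h1 := Coherence.sum_deg_sq_div (H.subgroupOf L) ⊥ F h.mem
  rw [Finset.sum_congr rfl (g := fun φ => φ 1 ^ 2) fun φ hφ => by
    rw [classInner_isIrr_self (h.irr hφ), div_one]] at h1
  rw [h1, Subgroup.relIndex_bot_left,
    Nat.card_congr (Subgroup.subgroupOfEquivOfLe h.le).toEquiv]

/-- Peterfalvi (7.7): the restriction to `H#` of a character orthogonal to, or equal to, an image. -/
theorem restrict_eq (hζ : ζ ∈ F) (hdeg : ζ 1 = ((H.subgroupOf L).index : ℂ)) {χ : G → ℂ}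
    (hχ : IsClassFunction G χ) {v : ℂ}
    (hv : ∀ φ ∈ F, ∀ [Decidable (ζ = φ)], classInner χ (f φ) = v * (if ζ = φ then 1 else 0))
    (u : L) (hu : (u : G) ∈ H) (hu1 : u ≠ 1) :
    χ u = v * ζ u + (classInner χ (beta H L ζ) + v) := by
  classical
  haveI := h.normal
  have he : ((H.subgroupOf L).index : ℂ) ≠ 0 :=
    Nat.cast_ne_zero.2 Subgroup.index_ne_zero_of_finite
  set w : L → ℂ := (fun x : L => χ x) - v • ζ with hw
  have hwcl : IsClassFunction L w := fun x y => by
    simp only [hw, Pi.sub_apply, Pi.smul_apply, Subgroup.coe_mul, Subgroup.coe_inv, hχ (x : G) (y : G),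
      isClassFunction_of_isIrr (h.irr hζ) x y]
  set t := classInner w ζ / ((H.subgroupOf L).index : ℂ)
  have hprop : ∀ φ ∈ F, classInner w φ = t * φ 1 := by
    intro φ hφ
    obtain ⟨n, -, hn⟩ := exists_degree_pos (h.irr hφ)
    have h1 : classInner χ (indFun L (ζ 1 • φ - φ 1 • ζ)) =
        classInner (fun x : L => χ x) (ζ 1 • φ - φ 1 • ζ) :=
      OddOrderChar.classInner_indFun_right L _ hχ
    rw [← h.agree φ hφ ζ hζ, ci_sub_right, ci_sub_right, ci_smul_right, ci_smul_right, ci_smul_right,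
      ci_smul_right, hv φ hφ, hv ζ hζ, if_pos rfl, hdeg, hn, Complex.conj_natCast,
      Complex.conj_natCast] at h1
    simp only [t, hw, ci_sub_left, ci_smul_left, h.ci_irr hζ hφ, classInner_isIrr_self (h.irr hζ),
      hn]
    field_simp
    linear_combination -h1
  set C := ∑ ψ ∈ Finset.univ.filter (fun ψ : IrrCharacter L => ψ.1 ∉ F),
    (classInner w ψ.1 * ψ.1 1 - t * ψ.1 1 ^ 2) with hC
  have hconst : ∀ x : L, (x : G) ∈ H → x ≠ 1 → w x = C := by
    intro x hx hx1
    have hexp := congrFun (classFunction_expansion hwcl) x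
    simp only [Finset.sum_apply, Pi.smul_apply, smul_eq_mul] at hexp
    have h0 := sum_degree_mul x
    rw [if_neg hx1, ← Finset.sum_filter_add_sum_filter_not Finset.univ (fun ψ : IrrCharacter L => ψ.1 ∈ F)]
      at h0
    rw [hexp, ← Finset.sum_filter_add_sum_filter_not Finset.univ (fun ψ : IrrCharacter L => ψ.1 ∈ F),
      Finset.sum_congr rfl (g := fun ψ : IrrCharacter L => t * (ψ.1 1 * ψ.1 x))
        (fun ψ hψ => by rw [hprop _ (Finset.mem_filter.1 hψ).2]; ring),
      ← Finset.mul_sum, eq_neg_of_add_eq_zero_left h0, mul_neg, Finset.mul_sum, neg_add_eq_sub,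
      ← Finset.sum_sub_distrib, hC]
    refine Finset.sum_congr rfl fun ψ hψ => ?_
    have hx' : ψ.1 x = ψ.1 1 := by
      by_contra hne
      refine (Finset.mem_filter.1 hψ).2 (Finset.mem_coe.1 ?_)
      rw [h.mem, frob_eq_nontrivial h.fix]
      exact ⟨ψ.2, x, Subgroup.mem_subgroupOf.2 hx, hne⟩
    rw [hx', sq]
  have h2 : classInner χ (beta H L ζ) = C - v := by
    rw [beta, OddOrderChar.classInner_indFun_right L _ hχ,
      show (fun x : L => χ x) = w + v • ζ by rw [hw]; abel, ci_add_left, ci_smul_left,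
      ← ci_conj (indFun (H.subgroupOf L) (fun _ => 1) - ζ) ζ, h.ci_alpha_mem hζ hζ, if_pos rfl]
    have h3 : classInner w (indFun (H.subgroupOf L) (fun _ => 1) - ζ) =
        classInner (fun _ => C) (indFun (H.subgroupOf L) (fun _ => 1) - ζ) := by
      unfold classInner
      congr 1
      refine Finset.sum_congr rfl fun x _ => ?_
      by_cases hx : (x : G) ∈ H
      · by_cases hx1 : x = 1
        · rw [hx1, h.alpha_one hdeg]; simp
        · rw [hconst x hx hx1]
      · rw [h.alpha_supp hζ x hx]; simp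
    rw [h3, show (fun _ : L => C) = C • (fun _ : L => (1 : ℂ)) by funext x; simp, ci_smul_left,
      ← ci_conj (indFun (H.subgroupOf L) (fun _ => 1) - ζ), h.ci_alpha_one hζ]
    simp [sub_eq_add_neg]
  have h4 := hconst u hu hu1
  simp only [hw, Pi.sub_apply, Pi.smul_apply, smul_eq_mul] at h4
  rw [h2]
  linear_combination h4

end TIPack

end CfsgLib.OddOrder
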