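import Mathlib.GroupTheory.Index
import Mathlib.GroupTheory.Coset.Card
import Mathlib.GroupTheory.OrderOfElement
import Mathlib.Algebra.BigOperators.Group.Finset.Sigma
import Mathlib.Data.Fintype.BigOperators
import Cfsg.Prelude.Def_OddOrderLocal

/-!
# Sums over a group covered by TI subgroups of pairwise coprime orders
-/

set_option autoImplicit false

namespace CfsgLib.OddOrder

open Cfsg

variable {G : Type*} [Group G] [Fintype G] {ι : Type*} [Fintype ι]

open Classical in
/-- A class invariant summed over the non-identity elements, subgroup by subgroup. -/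
theorem cover_sum (H : ι → Subgroup G)
    (hcop : ∀ i j, i ≠ j → Nat.Coprime (Nat.card (H i)) (Nat.card (H j)))
    (hTI : ∀ i, IsTISubset (H i : Set G))
    (hcover : ∀ g : G, g ≠ 1 → ∃ i, ∃ x : G, x * g * x⁻¹ ∈ H i)
    {M : Type*} [AddCommMonoid M] (F : G → M) (hF : ∀ g x : G, F (x * g * x⁻¹) = F g) :
    ∑ g ∈ Finset.univ.erase (1 : G), F g =
      ∑ i, (Subgroup.normalizer (H i : Set G)).index • ∑ h : {h : H i // h ≠ 1}, F (h.1 : G) := by
  set N : ι → Subgroup G := fun i => Subgroup.normalizer (H i : Set G) with hN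
  let T := Σ i, (G ⧸ N i) × {h : H i // h ≠ 1}
  let f : T → {g : G // g ≠ 1} := fun t =>
    ⟨Quotient.out t.2.1 * ((t.2.2.1 : H t.1) : G) * (Quotient.out t.2.1)⁻¹, fun h =>
      t.2.2.2 (Subtype.ext (conj_eq_one_iff.mp h))⟩
  have hinj : Function.Injective f := by
    rintro ⟨i, c, h⟩ ⟨j, d, k⟩ he
    have he' : Quotient.out c * ((h.1 : H i) : G) * (Quotient.out c)⁻¹
        = Quotient.out d * ((k.1 : H j) : G) * (Quotient.out d)⁻¹ := congrArg Subtype.val he
    set n := (Quotient.out d)⁻¹ * Quotient.out c with hn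
    have hk : ((k.1 : H j) : G) = n * ((h.1 : H i) : G) * n⁻¹ := by
      calc ((k.1 : H j) : G) = (Quotient.out d)⁻¹ *
            (Quotient.out d * ((k.1 : H j) : G) * (Quotient.out d)⁻¹) * Quotient.out d := by group
        _ = n * ((h.1 : H i) : G) * n⁻¹ := by rw [← he', hn]; group
    have hij : i = j := by
      by_contra hne
      have h1 : orderOf ((h.1 : H i) : G) ∣ Nat.card (H i) :=
        Subgroup.orderOf_dvd_natCard _ h.1.2
      have h2 : orderOf ((h.1 : H i) : G) ∣ Nat.card (H j) := by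
        have h4 : orderOf ((k.1 : H j) : G) = orderOf ((h.1 : H i) : G) := by
          rw [hk]; exact MulEquiv.orderOf_eq (MulAut.conj n) _
        rw [← h4]; exact Subgroup.orderOf_dvd_natCard _ k.1.2
      exact h.2 (Subtype.ext (orderOf_eq_one_iff.1 (Nat.eq_one_of_dvd_coprimes (hcop i j hne) h1 h2)))
    subst hij
    have hmem : n ∈ N i := by
      by_contra hnot
      exact h.2 (Subtype.ext (hTI i _ hnot _ h.1.2 (hk ▸ k.1.2)))
    have hdc : d = c := by
      have := QuotientGroup.eq.2 (hn ▸ hmem)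
      simpa using this
    subst hdc
    have hkh : k = h := by
      apply Subtype.ext; apply Subtype.ext
      rw [hk, hn, inv_mul_cancel, one_mul, inv_one, mul_one]
    subst hkh
    rfl
  have hsurj : Function.Surjective f := by
    rintro ⟨g, hg⟩
    obtain ⟨i, x, hx⟩ := hcover g hg
    set c : G ⧸ N i := QuotientGroup.mk x⁻¹ with hc
    have hn : (Quotient.out c)⁻¹ * x⁻¹ ∈ N i := QuotientGroup.eq.1 (by simp [hc])
    set n := (Quotient.out c)⁻¹ * x⁻¹ with hnd
    have hmem : n * (x * g * x⁻¹) * n⁻¹ ∈ H i := (Subgroup.mem_normalizer_iff.1 hn _).1 hx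
    refine ⟨⟨i, c, ⟨⟨_, hmem⟩, ?_⟩⟩, ?_⟩
    · intro h
      have h2 : n * (x * g * x⁻¹) * n⁻¹ = 1 := congrArg Subtype.val h
      exact hg (by simpa using h2)
    · apply Subtype.ext
      show Quotient.out c * (n * (x * g * x⁻¹) * n⁻¹) * (Quotient.out c)⁻¹ = g
      rw [hnd]; group
  have h1 : ∑ g ∈ Finset.univ.erase (1 : G), F g = ∑ g : {g : G // g ≠ 1}, F g :=
    Finset.sum_subtype _ (by simp) _
  rw [h1, ← Fintype.sum_bijective f ⟨hinj, hsurj⟩ (fun t => F (f t).1) _ (fun _ => rfl),
    Fintype.sum_sigma]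
  refine Finset.sum_congr rfl fun i _ => ?_
  rw [Fintype.sum_prod_type]
  simp only [f, hF]
  show ∑ _x : G ⧸ N i, ∑ y : {h : H i // h ≠ 1}, F (y.1 : G) = _
  rw [Finset.sum_const, Finset.card_univ, Fintype.card_eq_nat_card]
  rfl

end CfsgLib.OddOrder
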