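import Cfsg.Agent.OddOrder.PF7.CoherentTI

/-!
# The mass of a character on the conjugates of a coherent TI kernel (Peterfalvi (7.5), (7.8.b))
-/

set_option autoImplicit false
set_option linter.unusedSectionVars false

namespace CfsgLib.OddOrder

open Cfsg ComplexConjugate CfsgLib.Characters CfsgLib.Coherence

universe u

variable {G : Type u} [Group G] [Fintype G] {H L : Subgroup G} [Fintype L]

noncomputable local instance fintypeSubMass (M : Subgroup L) : Fintype M := Fintype.ofFinite M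

open Classical in
/-- `(1/|L|)` times the sum of `|χ|²` over `H#`. -/
noncomputable def mass (H L : Subgroup G) (χ : G → ℂ) : ℝ :=
  (Nat.card L : ℝ)⁻¹ * ∑ h : {h : H // h ≠ 1}, Complex.normSq (χ (h.1 : G))

open Classical in
/-- A sum over `H#` as a sum over `L`, for a summand vanishing off `H`. -/
theorem sum_nonidentity (hle : H ≤ L) (F : L → ℂ) (hF : ∀ x : L, (x : G) ∉ H → F x = 0) :
    ∑ h : {h : H // h ≠ 1}, F ⟨h.1, hle h.1.2⟩ = (∑ x : L, F x) - F 1 := by
  rw [eq_sub_iff_add_eq, add_comm,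
    ← Finset.sum_subset (Finset.subset_univ (Finset.univ.filter fun x : L => (x : G) ∈ H))
      (fun x _ hx => hF x (by simpa using hx))]
  rw [← Finset.add_sum_erase (Finset.univ.filter fun x : L => (x : G) ∈ H) F
    (show (1 : L) ∈ _ by simp)]
  congr 1
  refine Finset.sum_bij (fun h _ => ⟨h.1, hle h.1.2⟩) (fun h _ => ?_) (fun a _ b _ he => ?_)
    (fun x hx => ?_) (fun _ _ => rfl)
  · refine Finset.mem_erase.2 ⟨fun he => h.2 (Subtype.ext ?_), by simp⟩
    exact congrArg (fun z : L => (z : G)) he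
  · exact Subtype.ext (Subtype.ext (congrArg (fun z : L => (z : G)) he))
  · obtain ⟨hx1, hxH⟩ := Finset.mem_erase.1 hx
    refine ⟨⟨⟨x, (Finset.mem_filter.1 hxH).2⟩, fun he => hx1 (Subtype.ext ?_)⟩, Finset.mem_univ _, rfl⟩
    exact congrArg (fun z : H => (z : G)) he

omit [Fintype L] in
open Classical in
theorem card_nonidentity (H : Subgroup G) :
    (Fintype.card {h : H // h ≠ 1} : ℝ) = (Nat.card H : ℝ) - 1 := by
  rw [Fintype.card_subtype_compl, Fintype.card_subtype_eq, Nat.card_eq_fintype_card,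
    Nat.cast_sub (Fintype.card_pos (α := H)), Nat.cast_one]

namespace TIPack

variable {F : Finset (L → ℂ)} {f : (L → ℂ) → (G → ℂ)} (h : TIPack H L F f) {ζ : L → ℂ}
include h

/-- The mass of a character orthogonal to all the images. -/
theorem mass_of_orth (hζ : ζ ∈ F) (hdeg : ζ 1 = ((H.subgroupOf L).index : ℂ)) {χ : G → ℂ}
    (hχ : IsClassFunction G χ) (h0 : ∀ φ ∈ F, classInner χ (f φ) = 0) {k : ℤ}
    (hk : classInner χ (beta H L ζ) = k) :
    mass H L χ = (Nat.card L : ℝ)⁻¹ * ((k : ℝ) ^ 2 * ((Nat.card H : ℝ) - 1)) := by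
  classical
  unfold mass
  congr 1
  rw [Finset.sum_congr rfl (g := fun _ => (k : ℝ) ^ 2) fun x _ => ?_, Finset.sum_const, nsmul_eq_mul,
    Finset.card_univ, card_nonidentity, mul_comm]
  have h1 := h.restrict_eq hζ hdeg hχ (v := 0) (fun φ hφ _ => by rw [h0 φ hφ, zero_mul])
    ⟨x.1, h.le x.1.2⟩ x.1.2 (fun he => x.2 (Subtype.ext (congrArg (fun z : L => (z : G)) he)))
  rw [hk, zero_mul, zero_add, add_zero] at h1
  rw [h1, ← Complex.ofReal_intCast, Complex.normSq_ofReal, sq]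

/-- The mass of `f ζ`. -/
theorem mass_self (hζ : ζ ∈ F) (hdeg : ζ 1 = ((H.subgroupOf L).index : ℂ)) {a : ℤ}
    (ha : classInner (f ζ) (beta H L ζ) + 1 = a) :
    mass H L (f ζ) = (Nat.card L : ℝ)⁻¹ * ((Nat.card L : ℝ) - ((H.subgroupOf L).index : ℝ) ^ 2 -
      2 * (a : ℝ) * ((H.subgroupOf L).index : ℝ) + (a : ℝ) ^ 2 * ((Nat.card H : ℝ) - 1)) := by
  classical
  set e := (H.subgroupOf L).index with he
  unfold mass
  congr 1
  have h1 : ∀ x : {x : H // x ≠ 1}, f ζ (x.1 : G) = ζ ⟨x.1, h.le x.1.2⟩ + (a : ℂ) := by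
    intro x
    have h2 := h.restrict_eq hζ hdeg (Coherence.isClassFunction_of_isGen (h.gen ζ hζ)) (v := 1)
      (fun φ hφ _ => by rw [h.inner ζ hζ φ hφ, h.ci_irr hζ hφ, one_mul])
      ⟨x.1, h.le x.1.2⟩ x.1.2 (fun he => x.2 (Subtype.ext (congrArg (fun z : L => (z : G)) he)))
    rw [ha, one_mul] at h2
    exact h2
  apply Complex.ofReal_injective
  push_cast
  have h3 : ∀ x : {x : H // x ≠ 1}, ((Complex.normSq (f ζ (x.1 : G)) : ℝ) : ℂ) =
      ζ ⟨x.1, h.le x.1.2⟩ * conj (ζ ⟨x.1, h.le x.1.2⟩) +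
        (a : ℂ) * ζ ⟨x.1, h.le x.1.2⟩ + (a : ℂ) * conj (ζ ⟨x.1, h.le x.1.2⟩) + (a : ℂ) ^ 2 := by
    intro x
    rw [← Complex.mul_conj, h1 x, map_add, map_intCast]
    ring
  rw [Finset.sum_congr rfl fun x _ => h3 x, Finset.sum_add_distrib, Finset.sum_add_distrib,
    Finset.sum_add_distrib, ← Finset.mul_sum, ← Finset.mul_sum,
    sum_nonidentity h.le (fun x => ζ x * conj (ζ x)) (fun x hx => by simp [h.supp hζ hx]),
    sum_nonidentity h.le ζ (fun x hx => h.supp hζ hx),
    sum_nonidentity h.le (fun x => conj (ζ x)) (fun x hx => by simp [h.supp hζ hx])]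
  have hL : (Nat.card L : ℂ) ≠ 0 := Nat.cast_ne_zero.2 Nat.card_pos.ne'
  have hn : ∑ x : L, ζ x * conj (ζ x) = (Nat.card L : ℂ) := by
    have := classInner_isIrr_self (h.irr hζ)
    rw [classInner, inv_mul_eq_one₀ hL] at this
    exact this.symm
  have h0 : ∑ x : L, ζ x = 0 := by
    have := h.ci_one hζ
    rw [classInner] at this
    simpa [hL] using this
  have h0' : ∑ x : L, conj (ζ x) = 0 := by rw [← map_sum, h0, map_zero]
  rw [hn, h0, h0', hdeg, Complex.conj_natCast, Finset.sum_const, nsmul_eq_mul, Finset.card_univ]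
  have hc : (Fintype.card {x : H // x ≠ 1} : ℂ) = (Nat.card H : ℂ) - 1 := by
    have := congrArg (fun r : ℝ => (r : ℂ)) (card_nonidentity H)
    push_cast at this
    exact this
  rw [hc]
  ring

end TIPack

end CfsgLib.OddOrder
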