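import Cfsg.Agent.OddOrder.PF7.Partition
import Cfsg.Agent.Coherence.Sibley

/-!
# Sibley's theorem supplies the data of section 7 for a nilpotent TI Frobenius kernel
-/

set_option autoImplicit false
set_option linter.unusedSectionVars false

namespace CfsgLib.OddOrder

open Cfsg CfsgLib.Characters CfsgLib.Coherence

universe u

variable {G : Type u} [Group G] [Fintype G] {H L : Subgroup G} [Fintype L]

noncomputable local instance fintypeSubPack (M : Subgroup L) : Fintype M := Fintype.ofFinite M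

/-- A nilpotent TI Frobenius kernel in a group of odd order is coherent (PF (6.8)). -/
theorem exists_tiPack (hodd : Odd (Nat.card G)) (hTI : IsTISubset (H : Set G))
    (hN : Subgroup.normalizer (H : Set G) = L)
    (hfix : ∀ k ∈ H.subgroupOf L, k ≠ 1 → Subgroup.centralizer ({k} : Set L) ≤ H.subgroupOf L)
    (hK1 : H.subgroupOf L ≠ ⊥) (hKL : H.subgroupOf L < ⊤)
    (hnil : Group.IsNilpotent (H.subgroupOf L)) :
    ∃ F f, TIPack H L F f ∧ ∃ ζ ∈ F, ζ 1 = ((H.subgroupOf L).index : ℂ) := by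
  classical
  haveI : (H.subgroupOf L).Normal :=
    (Subgroup.normal_subgroupOf_iff_le_normalizer (hN ▸ Subgroup.le_normalizer)).2 hN.ge
  have hoddL : Odd (Nat.card L) := hodd.of_dvd_nat L.card_subgroup_dvd_card
  have hsolv : Group.IsSolvable (H.subgroupOf L) := inferInstance
  obtain ⟨-, τ₁, h₁, h₂⟩ := sibley hTI hN hoddL hnil hK1 hKL hfix
  obtain ⟨hiso, hiso1⟩ := ti_isometry hTI hN
  obtain ⟨F, T, R, hF, hS, hT⟩ := frob_exists_sys hfix hsolv hK1 hiso hiso1 hoddL hKL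
  rw [← hF] at h₁ h₂
  have hext := isExt_of_isCoherent hS.deg hT h₁ h₂
  refine ⟨F, τ₁, ⟨hTI, hN, hodd, hfix, hK1, hKL, hF, hext.gen, hext.inner, fun χ hχ φ hφ => ?_⟩, ?_⟩
  · rw [hext.agree χ hχ φ hφ, hT _ (hS.deg.edge_mem hχ hφ)]
    rfl
  · obtain ⟨φ, hφ, hφ1⟩ := exists_linear_mem (H.subgroupOf L) hsolv ⊥ (bot_lt_iff_ne_bot.2 hK1)
    exact ⟨φ, Finset.mem_coe.1 (hF ▸ hφ), hφ1⟩

end CfsgLib.OddOrder
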