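import Cfsg.Agent.Coherence.Virtual
import Cfsg.Agent.Coherence.Inner
import Cfsg.Agent.Characters.FixedPoints
import Cfsg.Prelude.Def_OddOrderChar

/-!
# Real virtual characters in a group of odd order

Tools for Peterfalvi (7.9): the inner product of two real virtual characters has the parity of the
product of their multiplicities of the principal character, and a signed irreducible character
orthogonal to the principal one is orthogonal to its complex conjugate.
-/

set_option autoImplicit false
set_option linter.unusedSectionVars false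

namespace CfsgLib.OddOrder

open Cfsg ComplexConjugate CfsgLib.Characters CfsgLib.Coherence

universe u

variable {G : Type u} [Group G] [Fintype G]

/-- Peterfalvi's parity argument. -/
theorem odd_ci_of_real (hodd : Odd (Nat.card G)) {P Q : G → ℂ} (hP : IsGeneralizedCharacter G P)
    (hQ : IsGeneralizedCharacter G Q) (hPr : conjFun P = P) (hQr : conjFun Q = Q)
    (hP1 : classInner P (fun _ => 1) = 1) (hQ1 : classInner Q (fun _ => 1) = 1) :
    ∃ m : ℤ, classInner P Q = m ∧ Odd m := by
  classical
  choose c hc using fun χ : IrrCharacter G => ci_int hP (Coherence.isGen_of_isIrr χ.2)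
  choose d hd using fun χ : IrrCharacter G => ci_int hQ (Coherence.isGen_of_isIrr χ.2)
  let τ : IrrCharacter G → IrrCharacter G := fun χ => ⟨conjFun χ.1, Coherence.isIrr_conjFun χ.2⟩
  have hτ : ∀ χ, τ (τ χ) = χ := fun χ => Subtype.ext (conjFun_conjFun χ.1)
  have key : ∀ (R : G → ℂ) (r : IrrCharacter G → ℤ), conjFun R = R →
      (∀ χ : IrrCharacter G, classInner R χ.1 = r χ) → ∀ χ, r (τ χ) = r χ := by
    intro R r hR hr χ
    have h := hr (τ χ)
    change classInner R (conjFun χ.1) = _ at h
    rw [← hR, ci_conjFun, ← ci_conj, hr χ, map_intCast] at h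
    exact_mod_cast h.symm
  have hcτ := key P c hPr hc
  have hdτ := key Q d hQr hd
  let one : IrrCharacter G := ⟨fun _ => 1, Characters.isIrr_one⟩
  have hfix : ∀ χ, τ χ = χ → χ = one := fun χ h => Subtype.ext
    (eq_one_of_real_of_odd hodd χ.2 fun g =>
      Complex.conj_eq_iff_im.1 (congrFun (congrArg Subtype.val h) g))
  have hτone : τ one = one := Subtype.ext (by funext g; simp [τ, one, conjFun])
  refine ⟨∑ χ, c χ * d χ, ?_, ?_⟩
  · rw [classInner_eq_sum (Coherence.isClassFunction_of_isGen hP)]
    push_cast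
    exact Finset.sum_congr rfl fun χ _ => by rw [hc χ, hd χ, map_intCast]
  · rw [← Finset.add_sum_erase _ _ (Finset.mem_univ one)]
    have h1 : c one = 1 := by exact_mod_cast (hc one).symm.trans hP1
    have h2 : d one = 1 := by exact_mod_cast (hd one).symm.trans hQ1
    rw [h1, h2, mul_one]
    refine Odd.add_even odd_one ((ZMod.intCast_zmod_eq_zero_iff_dvd _ 2).1 ?_ |> even_iff_two_dvd.2)
    push_cast
    refine Finset.sum_involution (fun χ _ => τ χ) (fun χ _ => ?_) (fun χ hχ _ h => ?_)
      (fun χ hχ => ?_) (fun χ _ => hτ χ)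
    · rw [hcτ, hdτ]
      exact CharTwo.add_self_eq_zero _
    · exact (Finset.mem_erase.1 hχ).1 (hfix χ h)
    · refine Finset.mem_erase.2 ⟨fun h => (Finset.mem_erase.1 hχ).1 ?_, Finset.mem_univ _⟩
      rw [← hτ χ, h, hτone]

/-- A signed irreducible character orthogonal to `1` is orthogonal to its conjugate. -/
theorem ci_conj_self_eq_zero (hodd : Odd (Nat.card G)) {a : G → ℂ}
    (ha : IsIrrCharacter G a ∨ IsIrrCharacter G (-a))
    (h1 : classInner a (fun _ => 1) = 0) : classInner (conjFun a) a = 0 := by
  classical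
  obtain ⟨μ, hμ, hμa⟩ : ∃ μ, IsIrrCharacter G μ ∧ (a = μ ∨ a = -μ) := by
    rcases ha with h | h
    · exact ⟨a, h, Or.inl rfl⟩
    · exact ⟨-a, h, Or.inr (neg_neg a).symm⟩
  have hne : conjFun μ ≠ μ := by
    intro h
    have hμ1 : μ = fun _ => 1 := eq_one_of_real_of_odd hodd hμ fun g =>
      Complex.conj_eq_iff_im.1 (congrFun h g)
    rcases hμa with rfl | rfl
    · rw [hμ1, classInner_isIrr_self Characters.isIrr_one] at h1
      exact one_ne_zero h1
    · rw [hμ1, ci_neg_left, classInner_isIrr_self Characters.isIrr_one] at h1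
      exact neg_ne_zero.2 one_ne_zero h1
  have h0 := classInner_isIrr_ne (Coherence.isIrr_conjFun hμ) hμ hne
  rcases hμa with rfl | rfl
  · exact h0
  · have : conjFun (-μ) = -conjFun μ := by funext g; simp [conjFun]
    rw [this, ci_neg_left, ci_neg_right, neg_neg, h0]

/-- Bessel's inequality for an orthonormal family. -/
theorem bessel_family {κ : Type*} [Fintype κ] (v : κ → G → ℂ)
    (hv1 : ∀ k, classInner (v k) (v k) = 1)
    (hv : ∀ k l, k ≠ l → classInner (v k) (v l) = 0) (β : G → ℂ) :
    ∑ k, Complex.normSq (classInner β (v k)) ≤ sqNorm β := by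
  classical
  have hinj : Function.Injective v := by
    intro k l h
    by_contra hne
    have h2 := hv k l hne
    rw [← h, hv1] at h2
    exact one_ne_zero h2
  have hS : IsOrthSet (Finset.univ.image v) := by
    refine ⟨fun χ hχ h0 => ?_, fun χ hχ φ hφ hne => ?_⟩
    · obtain ⟨k, -, rfl⟩ := Finset.mem_image.1 hχ
      have := hv1 k
      rw [h0, ci_zero_left] at this
      exact zero_ne_one this
    · obtain ⟨k, -, rfl⟩ := Finset.mem_image.1 hχ
      obtain ⟨l, -, rfl⟩ := Finset.mem_image.1 hφ
      exact hv k l fun h => hne (h ▸ rfl)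
  have hb := bessel hS β
  rw [Finset.sum_image fun k _ l _ h => hinj h] at hb
  refine le_trans (le_of_eq (Finset.sum_congr rfl fun k _ => ?_)) hb
  rw [sqNorm, hv1]
  simp

end CfsgLib.OddOrder
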