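import Cfsg.Agent.OddOrder.PF7.Mass
import Cfsg.Agent.OddOrder.PF7.Cover

/-!
# No group of odd order is partitioned by coherent Frobenius kernels (Peterfalvi (7.9)-(7.11))
-/

set_option autoImplicit false
set_option linter.unusedSectionVars false

namespace CfsgLib.OddOrder

open Cfsg ComplexConjugate CfsgLib.Characters CfsgLib.Coherence

universe u

variable {G : Type u} [Group G] [Fintype G]

open scoped Classical

/-- A natural number form of the degrees in the set of induced characters. -/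
theorem TIPack.exists_relDeg {H L : Subgroup G} {F : Finset (L → ℂ)} {f : (L → ℂ) → (G → ℂ)}
    (h : TIPack H L F f) {φ : L → ℂ} (hφ : φ ∈ F) :
    ∃ m : ℕ, φ 1 = ((H.subgroupOf L).index : ℂ) * m := by
  obtain ⟨θ, hθ, -, -, rfl⟩ := (h.mem ▸ Finset.mem_coe.2 hφ : φ ∈ inducedIrrAbove (H.subgroupOf L) ⊥)
  obtain ⟨m, -, hm⟩ := exists_degree_pos hθ
  exact ⟨m, by rw [← hm]; exact Characters.indFun_one (H.subgroupOf L) θ⟩

/-- Peterfalvi (7.9): images for kernels of coprime orders are orthogonal. -/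
theorem TIPack.cross {H L H' L' : Subgroup G} {F : Finset (L → ℂ)} {f : (L → ℂ) → (G → ℂ)}
    {F' : Finset (L' → ℂ)} {f' : (L' → ℂ) → (G → ℂ)} (h : TIPack H L F f) (h' : TIPack H' L' F' f')
    (hcop : Nat.Coprime (Nat.card H) (Nat.card H')) :
    (∀ (a : L → ℂ) (b : L' → ℂ), (∀ x : L, (x : G) ∉ H → a x = 0) → a 1 = 0 →
      (∀ x : L', (x : G) ∉ H' → b x = 0) → b 1 = 0 →
      classInner (indFun L a) (indFun L' b) = 0) ∧
    ∀ φ ∈ F, ∀ ψ ∈ F', classInner (f φ) (f' ψ) = 0 := by
  classical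
  have hind : ∀ (a : L → ℂ) (b : L' → ℂ), (∀ x : L, (x : G) ∉ H → a x = 0) → a 1 = 0 →
      (∀ x : L', (x : G) ∉ H' → b x = 0) → b 1 = 0 →
      classInner (indFun L a) (indFun L' b) = 0 := by
    intro a b hsa ha1 hsb hb1
    rw [OddOrderChar.classInner_indFun_left L a (Characters.isClassFunction_indFun L' b)]
    simp only [classInner]
    rw [Finset.sum_eq_zero, mul_zero]
    intro x _
    by_cases hx : (x : G) ∈ H
    · rw [ind_vanish hsb hb1 fun g hg => ?_, map_zero, mul_zero]
      have h1 : orderOf (g⁻¹ * (x : G) * g) = orderOf (x : G) := by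
        simpa using MulEquiv.orderOf_eq (MulAut.conj g⁻¹) (x : G)
      refine orderOf_eq_one_iff.1 (h1.trans ?_)
      exact Nat.eq_one_of_dvd_coprimes hcop (Subgroup.orderOf_dvd_natCard _ hx)
        (h1 ▸ Subgroup.orderOf_dvd_natCard _ hg)
    · rw [hsa x hx, zero_mul]
  refine ⟨hind, fun φ hφ ψ hψ => ?_⟩
  have hz : classInner (f φ - f (conjFun φ)) (f' ψ - f' (conjFun ψ)) = 0 := by
    rw [h.sub_conj hφ, h'.sub_conj hψ]
    refine hind _ _ (fun x hx => ?_) ?_ (fun x hx => ?_) ?_
    · simp [h.supp hφ hx, h.supp (h.conj_mem hφ) hx]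
    · obtain ⟨n, -, hn⟩ := exists_degree_pos (h.irr hφ)
      simp [hn, Coherence.conjFun_one hn]
    · simp [h'.supp hψ hx, h'.supp (h'.conj_mem hψ) hx]
    · obtain ⟨n, -, hn⟩ := exists_degree_pos (h'.irr hψ)
      simp [hn, Coherence.conjFun_one hn]
  have hga := h.gen φ hφ
  have hgc := h'.gen ψ hψ
  have hgc' := h'.gen _ (h'.conj_mem hψ)
  have hA := h.f_conj hφ
  have hC := h'.f_conj hψ
  have h1 : classInner (f (conjFun φ)) (f' (conjFun ψ)) = classInner (f φ) (f' ψ) := by
    rw [← hA, ← hC, ci_conjFun, Coherence.ci_symm hga hgc]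
  have h2 : classInner (f (conjFun φ)) (f' ψ) = classInner (f φ) (f' (conjFun ψ)) := by
    rw [← hA, show f' ψ = conjFun (f' (conjFun ψ)) by rw [← hC, conjFun_conjFun], ci_conjFun,
      Coherence.ci_symm hga hgc']
  rw [ci_sub_left, ci_sub_right, ci_sub_right, h1, h2] at hz
  by_contra hne
  have heq : classInner (f φ) (f' (conjFun ψ)) = classInner (f φ) (f' ψ) := by
    linear_combination (-1 / 2 : ℂ) * hz
  obtain ⟨ε, hε, he⟩ := Coherence.classInner_signed (h.signed hφ) (h'.signed hψ) hne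
  obtain ⟨ε', hε', he'⟩ := Coherence.classInner_signed (h.signed hφ)
    (h'.signed (h'.conj_mem hψ)) (heq ▸ hne)
  have h0 := h'.inner ψ hψ _ (h'.conj_mem hψ)
  rw [classInner_isIrr_ne (h'.irr hψ) (h'.irr (h'.conj_mem hψ)) (h'.conj_ne hψ).symm, he, he',
    ci_smul_left, ci_smul_right, h.inner φ hφ φ hφ, classInner_isIrr_self (h.irr hφ)] at h0
  rcases hε with rfl | rfl <;> rcases hε' with rfl | rfl <;> norm_num at h0

/-- The final inequality of (7.11). -/
theorem partition_arith (n e h g : ℝ) (hn : 2 ≤ n) (he : 3 ≤ e) (hh : h = n * e + 1)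
    (hg : h * (h + 2) ≤ g) (hle : 1 - 1 / g ≤ n / h + (e - 1) / (h + 2) + e / h) : False := by
  have h0 : 0 < h := by rw [hh]; positivity
  have hg0 : 0 < g := lt_of_lt_of_le (by positivity) hg
  rw [div_add_div _ _ h0.ne' (by positivity : h + 2 ≠ 0), div_add_div _ _ (by positivity) h0.ne',
    sub_le_iff_le_add, div_add_div _ _ (by positivity) hg0.ne', one_le_div (by positivity)] at hle
  have hk : (n + e) + (e - 1) ≤ h := by nlinarith [mul_nonneg (sub_nonneg.2 hn) (show 0 ≤ e - 1 by linarith)]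
  have h2 : (2 * (e - 1)) * g ≤ h * (h + 2) := by
    nlinarith [mul_le_mul_of_nonneg_right hk (mul_nonneg (mul_nonneg h0.le (by linarith : 0 ≤ h + 2)) hg0.le)]
  nlinarith [mul_le_mul_of_nonneg_right (show (4 : ℝ) ≤ 2 * (e - 1) by linarith) hg0.le]

variable {ι : Type*} [Fintype ι]

/-- Peterfalvi (7.11). -/
theorem no_coherent_partition (hodd : Odd (Nat.card G)) (hι : 2 ≤ Fintype.card ι)
    (L H : ι → Subgroup G)
    (hpack : ∀ i, ∃ F f, TIPack (H i) (L i) F f ∧
      ∃ ζ ∈ F, ζ 1 = (((H i).subgroupOf (L i)).index : ℂ))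
    (hcop : ∀ i j, i ≠ j → Nat.Coprime (Nat.card (H i)) (Nat.card (H j)))
    (hcover : ∀ g : G, g ≠ 1 → ∃ i, ∃ x : G, x * g * x⁻¹ ∈ H i) : False := by
  classical
  choose F f hp ζ hζ hdeg using hpack
  choose m hm using fun i (φ : {φ // φ ∈ F i}) => (hp i).exists_relDeg φ.2
  set e : ι → ℕ := fun i => ((H i).subgroupOf (L i)).index with he
  set h : ι → ℕ := fun i => Nat.card (H i) with hh
  set n : ι → ℕ := fun i => ∑ φ : {φ // φ ∈ F i}, m i φ ^ 2 with hn
  have he0 : ∀ i, (e i : ℂ) ≠ 0 := fun i => Nat.cast_ne_zero.2 Subgroup.index_ne_zero_of_finite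
  have hhen : ∀ i, h i = n i * e i + 1 := by
    intro i
    have h1 := (hp i).sum_deg_sq
    rw [← Finset.sum_coe_sort (F i) (fun φ => φ 1 ^ 2), Finset.sum_congr rfl
      (g := fun φ : {φ // φ ∈ F i} => (e i : ℂ) ^ 2 * (m i φ : ℂ) ^ 2)
      (fun φ _ => by rw [hm i φ, mul_pow]), ← Finset.mul_sum, sq (e i : ℂ), mul_assoc] at h1
    have h2 := mul_left_cancel₀ (he0 i) h1
    have h3 : ((h i : ℕ) : ℂ) = ((n i * e i + 1 : ℕ) : ℂ) := by
      simp only [hn, hh]
      push_cast
      linear_combination -h2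
    exact_mod_cast h3
  have hhodd : ∀ i, Odd (h i) := fun i => hodd.of_dvd_nat (H i).card_subgroup_dvd_card
  have heodd : ∀ i, Odd (e i) := fun i => (hp i).oddL.of_dvd_nat (Subgroup.index_dvd_card _)
  have he3 : ∀ i, 3 ≤ e i := fun i => by
    have h1 : e i ≠ 1 := fun h1 => (hp i).lt_top.ne (Subgroup.index_eq_one.1 h1)
    obtain ⟨t, ht⟩ := heodd i
    omega
  have hn2 : ∀ i, 2 ≤ n i := by
    intro i
    have h1 : 1 < h i := by
      have h2 : 1 < Nat.card ((H i).subgroupOf (L i)) :=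
        (Subgroup.one_lt_card_iff_ne_bot _).2 (hp i).ne_bot
      rwa [Nat.card_congr (Subgroup.subgroupOfEquivOfLe (hp i).le).toEquiv] at h2
    have h3 := hhen i
    rcases Nat.lt_or_ge (n i) 2 with hlt | hge
    · interval_cases hni : n i
      · omega
      · obtain ⟨a, ha⟩ := hhodd i
        obtain ⟨b, hb⟩ := heodd i
        omega
    · exact hge
  set χ : ι → G → ℂ := fun i => f i (ζ i) with hχdef
  set β : ι → G → ℂ := fun i => beta (H i) (L i) (ζ i) with hβdef
  have hχgen : ∀ i, IsGeneralizedCharacter G (χ i) := fun i => (hp i).gen _ (hζ i)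
  have hβgen : ∀ i, IsGeneralizedCharacter G (β i) := fun i => (hp i).beta_gen (hζ i)
  have hχone : ∀ i, classInner (χ i) (χ i) = 1 := fun i => by
    rw [(hp i).inner _ (hζ i) _ (hζ i), classInner_isIrr_self ((hp i).irr (hζ i))]
  choose C hC using fun i j => ci_int (hβgen i) (hχgen j)
  have hC' : ∀ i j, classInner (χ j) (β i) = C i j := fun i j => by
    rw [Coherence.ci_symm (hβgen i) (hχgen j), hC]
  -- cross orthogonality
  have hcross : ∀ i j, i ≠ j → ∀ φ ∈ F i, ∀ ψ ∈ F j, classInner (f i φ) (f j ψ) = 0 :=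
    fun i j hij => ((hp i).cross (hp j) (hcop i j hij)).2
  -- parity
  have hpar : ∀ i j, i ≠ j → C i j ≠ 0 ∨ C j i ≠ 0 := by
    intro i j hij
    have hgen : ∀ k, IsGeneralizedCharacter G (β k + χ k) := fun k =>
      Coherence.isGen_add (hβgen k) (hχgen k)
    have hone : ∀ k, classInner (β k + χ k) (fun _ => 1) = 1 := fun k => by
      rw [ci_add_left, (hp k).beta_one (hζ k), (hp k).f_ci_one (hζ k), add_zero]
    obtain ⟨z, hz, hzodd⟩ := odd_ci_of_real hodd (hgen i) (hgen j) ((hp i).beta_add_real (hζ i))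
      ((hp j).beta_add_real (hζ j)) (hone i) (hone j)
    have hbb : classInner (β i) (β j) = 0 :=
      ((hp i).cross (hp j) (hcop i j hij)).1 _ _ ((hp i).alpha_supp (hζ i))
        ((hp i).alpha_one (hdeg i)) ((hp j).alpha_supp (hζ j)) ((hp j).alpha_one (hdeg j))
    rw [ci_add_left, ci_add_right, ci_add_right, hbb, hC i j, hC' j i,
      hcross i j hij _ (hζ i) _ (hζ j), zero_add, add_zero] at hz
    have h3 : C i j + C j i = z := by exact_mod_cast hz
    by_contra hne
    push Not at hne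
    rw [hne.1, hne.2, add_zero] at h3
    rw [← h3] at hzodd
    exact Int.not_odd_zero hzodd
  -- the budget
  have hbudget : ∀ i, ∑ j ∈ Finset.univ.erase i, (C i j : ℝ) ^ 2 * n j ≤ (e i : ℝ) - 1 := by
    intro i
    let v : Option (Σ j, {φ // φ ∈ F j}) → G → ℂ := fun o => o.elim (fun _ => 1) fun p => f p.1 p.2.1
    have hv1 : ∀ k, classInner (v k) (v k) = 1 := by
      rintro (_ | ⟨j, φ, hφ⟩)
      · exact classInner_isIrr_self Characters.isIrr_one
      · exact ((hp j).inner φ hφ φ hφ).trans (classInner_isIrr_self ((hp j).irr hφ))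
    have hv : ∀ k l, k ≠ l → classInner (v k) (v l) = 0 := by
      rintro (_ | ⟨j, φ, hφ⟩) (_ | ⟨k, ψ, hψ⟩) hne
      · exact absurd rfl hne
      · show classInner (fun _ => 1) (f k ψ) = 0
        rw [← ci_conj, (hp k).f_ci_one hψ, map_zero]
      · exact (hp j).f_ci_one hφ
      · by_cases hjk : j = k
        · subst hjk
          show classInner (f j φ) (f j ψ) = 0
          rw [(hp j).inner φ hφ ψ hψ, classInner_isIrr_ne ((hp j).irr hφ) ((hp j).irr hψ)]
          rintro rfl
          exact hne rfl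
        · exact hcross j k hjk φ hφ ψ hψ
    have hb := bessel_family v hv1 hv (β i)
    rw [sqNorm, hβdef, (hp i).beta_self (hζ i) (hdeg i), Fintype.sum_option, Fintype.sum_sigma,
      ← Finset.add_sum_erase _ _ (Finset.mem_univ i)] at hb
    have h0 : Complex.normSq (classInner (beta (H i) (L i) (ζ i)) (v none)) = 1 := by
      show Complex.normSq (classInner (β i) (fun _ => 1)) = 1
      rw [(hp i).beta_one (hζ i), map_one]
    have hoff : ∀ j ∈ Finset.univ.erase i, ∑ φ : {φ // φ ∈ F j},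
        Complex.normSq (classInner (beta (H i) (L i) (ζ i)) (v (some ⟨j, φ⟩))) =
          (C i j : ℝ) ^ 2 * n j := by
      intro j hj
      have hij : i ≠ j := (Finset.mem_erase.1 hj).1.symm
      simp only [hn]
      push_cast
      rw [Finset.mul_sum]
      refine Finset.sum_congr rfl fun φ _ => ?_
      show Complex.normSq (classInner (β i) (f j φ.1)) = _
      have h1 : classInner (β i) (f j φ.1) = ((C i j * m j φ : ℤ) : ℂ) := by
        have h2 := ((hp i).cross (hp j) (hcop i j hij)).1 _ (ζ j 1 • φ.1 - φ.1 1 • ζ j)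
          ((hp i).alpha_supp (hζ i)) ((hp i).alpha_one (hdeg i))
          (fun x hx => by simp [(hp j).supp φ.2 hx, (hp j).supp (hζ j) hx]) (by simp [mul_comm])
        rw [← (hp j).agree φ.1 φ.2 (ζ j) (hζ j), ci_sub_right, ci_smul_right, ci_smul_right,
          hdeg j, hm j φ, map_mul, Complex.conj_natCast, Complex.conj_natCast] at h2
        have h3 : (e j : ℂ) * (classInner (β i) (f j φ.1) - (m j φ : ℂ) * C i j) = 0 := by
          rw [← hC i j]
          simp only [hχdef, hβdef, beta]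
          linear_combination h2
        have h4 := (mul_eq_zero.1 h3).resolve_left (he0 j)
        push_cast
        linear_combination h4
      rw [h1, ← Complex.ofReal_intCast, Complex.normSq_ofReal]
      push_cast
      ring
    have hown : ∑ φ : {φ // φ ∈ F i},
        Complex.normSq (classInner (beta (H i) (L i) (ζ i)) (v (some ⟨i, φ⟩))) =
          ((C i i : ℝ) + 1) ^ 2 * n i - 2 * ((C i i : ℝ) + 1) + 1 := by
      have h1 : ∀ φ : {φ // φ ∈ F i}, classInner (β i) (f i φ.1) =
          (((C i i + 1) * m i φ - (if φ = ⟨ζ i, hζ i⟩ then 1 else 0) : ℤ) : ℂ) := by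
        intro φ
        have h2 := (hp i).beta_coef (hζ i) (hdeg i) φ.2
        have h3 : classInner (beta (H i) (L i) (ζ i)) (f i (ζ i)) = C i i := hC i i
        rw [hm i φ, h3] at h2
        apply mul_left_cancel₀ (he0 i)
        simp only [hβdef]
        rw [h2]
        by_cases hc : φ = ⟨ζ i, hζ i⟩
        · subst hc; simp only [if_true, if_pos]; push_cast; ring
        · rw [if_neg hc, if_neg fun h => hc (Subtype.ext h.symm)]; push_cast; ring
      have hmζ : m i ⟨ζ i, hζ i⟩ = 1 := by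
        have h2 : ζ i 1 = _ := hm i ⟨ζ i, hζ i⟩
        rw [hdeg i] at h2
        have h3 : ((m i ⟨ζ i, hζ i⟩ : ℕ) : ℂ) = 1 :=
          mul_left_cancel₀ (he0 i) (by rw [mul_one]; exact h2.symm)
        exact_mod_cast h3
      rw [Finset.sum_congr rfl (g := fun φ : {φ // φ ∈ F i} =>
        ((C i i : ℝ) + 1) ^ 2 * (m i φ : ℝ) ^ 2 +
          (if φ = ⟨ζ i, hζ i⟩ then 1 - 2 * ((C i i : ℝ) + 1) else 0)) (fun φ _ => ?_),
        Finset.sum_add_distrib, ← Finset.mul_sum, Finset.sum_ite_eq' Finset.univ, if_pos (Finset.mem_univ _)]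
      · simp only [hn]; push_cast; ring
      · show Complex.normSq (classInner (β i) (f i φ.1)) = _
        rw [h1 φ, ← Complex.ofReal_intCast, Complex.normSq_ofReal]
        split_ifs with hc
        · subst hc; rw [hmζ]; push_cast; ring
        · push_cast; ring
    rw [h0, hown, Finset.sum_congr rfl hoff] at hb
    have h5 : (((e i : ℂ) + 1).re) = (e i : ℝ) + 1 := by simp
    rw [h5] at hb
    have h6 : (0 : ℝ) ≤ ((C i i : ℝ) + 1) ^ 2 * n i - 2 * ((C i i : ℝ) + 1) := by
      have h7 : (0 : ℤ) ≤ (C i i + 1) ^ 2 * n i - 2 * (C i i + 1) := by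
        have h8 : (0 : ℤ) ≤ (C i i + 1) * (C i i + 1) - (C i i + 1) := by
          rcases le_or_gt (C i i + 1) 0 with h9 | h9 <;> nlinarith
        have h9 : (2 : ℤ) ≤ n i := by exact_mod_cast hn2 i
        nlinarith [mul_le_mul_of_nonneg_left h9 (sq_nonneg (C i i + 1))]
      exact_mod_cast h7
    linarith
  -- sums over the covering
  have hTI : ∀ i, IsTISubset (H i : Set G) := fun i => (hp i).ti
  have hg : (0 : ℝ) < Nat.card G := Nat.cast_pos.2 Nat.card_pos
  have hidx : ∀ i, ((Subgroup.normalizer (H i : Set G)).index : ℝ) / Nat.card G =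
      (Nat.card (L i) : ℝ)⁻¹ := by
    intro i
    rw [(hp i).norm, div_eq_iff hg.ne', ← Subgroup.index_mul_card (L i), Nat.cast_mul, mul_comm,
      mul_assoc, mul_inv_cancel₀ (Nat.cast_ne_zero.2 Nat.card_pos.ne'), mul_one]
  have hL : ∀ i, (Nat.card (L i) : ℝ) = e i * h i := by
    intro i
    rw [← Subgroup.index_mul_card ((H i).subgroupOf (L i)), Nat.cast_mul,
      Nat.card_congr (Subgroup.subgroupOfEquivOfLe (hp i).le).toEquiv]
  have hmass : ∀ i, ∑ j, mass (H j) (L j) (χ i) ≤ 1 := by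
    intro i
    have h1 := cover_sum H hcop hTI hcover (fun g => Complex.normSq (χ i g)) fun g x => by
      rw [Coherence.isClassFunction_of_isGen (hχgen i) g x]
    have h2 : sqNorm (χ i) = 1 := by rw [sqNorm, hχone]; simp
    rw [sqNorm, ci_self_eq, Complex.ofReal_re] at h2
    rw [← h2]
    calc ∑ j, mass (H j) (L j) (χ i) = (Nat.card G : ℝ)⁻¹ * ∑ j,
          (Subgroup.normalizer (H j : Set G)).index •
            ∑ x : {x : H j // x ≠ 1}, Complex.normSq (χ i (x.1 : G)) := by
          rw [Finset.mul_sum]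
          refine Finset.sum_congr rfl fun j _ => ?_
          rw [mass, nsmul_eq_mul, ← hidx j]; ring
      _ ≤ (Nat.card G : ℝ)⁻¹ * ∑ g : G, Complex.normSq (χ i g) := by
          rw [← h1]
          refine mul_le_mul_of_nonneg_left ?_ (by positivity)
          exact Finset.sum_le_sum_of_subset_of_nonneg (Finset.erase_subset _ _)
            fun g _ _ => Complex.normSq_nonneg _
  have hcount : ∑ j, (n j : ℝ) / h j = 1 - 1 / Nat.card G := by
    have h1 := cover_sum H hcop hTI hcover (fun _ => (1 : ℝ)) fun _ _ => rfl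
    rw [Finset.sum_const, Finset.card_erase_of_mem (Finset.mem_univ _), Finset.card_univ,
      Fintype.card_eq_nat_card, nsmul_one, Nat.cast_sub Nat.card_pos] at h1
    have h2 : ∀ j, (Subgroup.normalizer (H j : Set G)).index •
        ∑ _x : {x : H j // x ≠ 1}, (1 : ℝ) = (Nat.card G : ℝ) * ((n j : ℝ) / h j) := by
      intro j
      have hej : (e j : ℝ) ≠ 0 := Nat.cast_ne_zero.2 Subgroup.index_ne_zero_of_finite
      have hhj : (h j : ℝ) ≠ 0 := Nat.cast_ne_zero.2 Nat.card_pos.ne'
      have h3 := hidx j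
      rw [div_eq_iff hg.ne', hL] at h3
      rw [Finset.sum_const, Finset.card_univ, nsmul_one, card_nonidentity, nsmul_eq_mul, h3]
      have h4 : (Nat.card (H j) : ℝ) = n j * e j + 1 := by exact_mod_cast hhen j
      rw [h4]
      field_simp
      ring
    rw [Finset.sum_congr rfl fun j _ => h2 j, ← Finset.mul_sum] at h1
    field_simp
    push_cast at h1
    linarith
  -- the two estimates
  have hoffmass : ∀ i j, j ≠ i → mass (H j) (L j) (χ i) = (C j i : ℝ) ^ 2 * ((n j : ℝ) / h j) := by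
    intro i j hji
    rw [(hp j).mass_of_orth (hζ j) (hdeg j) (Coherence.isClassFunction_of_isGen (hχgen i))
      (fun φ hφ => hcross i j hji.symm _ (hζ i) φ hφ) (hC' j i), hL j]
    have h4 : (Nat.card (H j) : ℝ) = n j * e j + 1 := by exact_mod_cast hhen j
    have hej : (e j : ℝ) ≠ 0 := Nat.cast_ne_zero.2 Subgroup.index_ne_zero_of_finite
    have hhj : (h j : ℝ) ≠ 0 := Nat.cast_ne_zero.2 Nat.card_pos.ne'
    rw [h4]
    field_simp
    ring
  have hself : ∀ i, 1 - (e i : ℝ) / h i ≤ mass (H i) (L i) (χ i) := by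
    intro i
    have ha : classInner (f i (ζ i)) (beta (H i) (L i) (ζ i)) + 1 = ((C i i + 1 : ℤ) : ℂ) := by
      rw [Int.cast_add, Int.cast_one, ← hC' i i]
    simp only [hχdef]
    rw [(hp i).mass_self (hζ i) (hdeg i) ha, hL i]
    have h4 : (Nat.card (H i) : ℝ) = n i * e i + 1 := by exact_mod_cast hhen i
    have hej : (0 : ℝ) < e i := Nat.cast_pos.2 (by have := he3 i; omega)
    have hhj : (0 : ℝ) < h i := Nat.cast_pos.2 Nat.card_pos
    rw [h4, inv_mul_eq_div, le_div_iff₀ (by positivity)]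
    have h6 : (0 : ℝ) ≤ ((C i i : ℝ) + 1) ^ 2 * n i - 2 * ((C i i : ℝ) + 1) := by
      have h7 : (0 : ℤ) ≤ (C i i + 1) ^ 2 * n i - 2 * (C i i + 1) := by
        have h8 : (0 : ℤ) ≤ (C i i + 1) * (C i i + 1) - (C i i + 1) := by
          rcases le_or_gt (C i i + 1) 0 with h9 | h9 <;> nlinarith
        have h9 : (2 : ℤ) ≤ n i := by exact_mod_cast hn2 i
        nlinarith [mul_le_mul_of_nonneg_left h9 (sq_nonneg (C i i + 1))]
      exact_mod_cast h7
    push_cast
    field_simp
    nlinarith [mul_nonneg hej.le h6]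
  -- choose the smallest kernel
  have : Nonempty ι := Fintype.card_pos_iff.1 (by omega)
  obtain ⟨i, -, hmin⟩ := Finset.exists_min_image Finset.univ h Finset.univ_nonempty
  have hne : ∀ j, j ≠ i → h i + 2 ≤ h j := by
    intro j hji
    have h1 : h i ≤ h j := hmin j (Finset.mem_univ _)
    have h2 : h i ≠ h j := by
      intro heq
      have h3 := hcop i j hji.symm
      change Nat.Coprime (h i) (h j) at h3
      rw [← heq, Nat.coprime_self] at h3
      have := hhen i
      have : 2 * 3 ≤ n i * e i := Nat.mul_le_mul (hn2 i) (he3 i)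
      omega
    obtain ⟨a, ha⟩ := hhodd i
    obtain ⟨b, hb⟩ := hhodd j
    omega
  have hkey : ∀ j ∈ Finset.univ.erase i, (n j : ℝ) / h j ≤
      (C i j : ℝ) ^ 2 * n j / (h i + 2) + mass (H j) (L j) (χ i) := by
    intro j hj
    have hji := (Finset.mem_erase.1 hj).1
    rw [hoffmass i j hji]
    have hhj : (h i : ℝ) + 2 ≤ h j := by exact_mod_cast hne j hji
    have hn0 : (0 : ℝ) ≤ n j := Nat.cast_nonneg _
    have hdiv : (n j : ℝ) / h j ≤ n j / (h i + 2) := div_le_div_of_nonneg_left hn0 (by positivity) hhj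
    have hpos : (0 : ℝ) ≤ (n j : ℝ) / h j := by positivity
    rcases hpar i j hji.symm with hc | hc
    · have h1 : (1 : ℝ) ≤ (C i j : ℝ) ^ 2 := by
        have : (1 : ℤ) ≤ C i j ^ 2 := by have := sq_pos_of_ne_zero hc; omega
        exact_mod_cast this
      have h2 : (n j : ℝ) / (h i + 2) ≤ (C i j : ℝ) ^ 2 * n j / (h i + 2) :=
        div_le_div_of_nonneg_right (le_mul_of_one_le_left hn0 h1) (by positivity)
      nlinarith [mul_nonneg (sq_nonneg (C j i : ℝ)) hpos]
    · have h1 : (1 : ℝ) ≤ (C j i : ℝ) ^ 2 := by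
        have : (1 : ℤ) ≤ C j i ^ 2 := by have := sq_pos_of_ne_zero hc; omega
        exact_mod_cast this
      have h2 : (0 : ℝ) ≤ (C i j : ℝ) ^ 2 * n j / (h i + 2) := by positivity
      nlinarith [le_mul_of_one_le_left hpos h1]
  have hA : (∑ j ∈ Finset.univ.erase i, (C i j : ℝ) ^ 2 * n j / (h i + 2)) ≤
      ((e i : ℝ) - 1) / (h i + 2) := by
    rw [← Finset.sum_div]
    exact div_le_div_of_nonneg_right (hbudget i) (by positivity)
  have hB : ∑ j ∈ Finset.univ.erase i, mass (H j) (L j) (χ i) ≤ (e i : ℝ) / h i := by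
    have h1 := hmass i
    rw [← Finset.add_sum_erase _ _ (Finset.mem_univ i)] at h1
    have := hself i
    linarith
  have htot : (1 : ℝ) - 1 / Nat.card G ≤
      (n i : ℝ) / h i + ((e i : ℝ) - 1) / (h i + 2) + (e i : ℝ) / h i := by
    rw [← hcount, ← Finset.add_sum_erase _ _ (Finset.mem_univ i)]
    have := Finset.sum_le_sum hkey
    rw [Finset.sum_add_distrib] at this
    linarith
  obtain ⟨j, hji⟩ := Fintype.exists_ne_of_one_lt_card (by omega : 1 < Fintype.card ι) i
  have hdvd : h i * h j ∣ Nat.card G :=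
    (hcop i j hji.symm).mul_dvd_of_dvd_of_dvd (H i).card_subgroup_dvd_card (H j).card_subgroup_dvd_card
  have hgle : (h i : ℝ) * (h i + 2) ≤ Nat.card G := by
    calc (h i : ℝ) * (h i + 2) ≤ (h i : ℝ) * h j :=
          mul_le_mul_of_nonneg_left (by exact_mod_cast hne j hji) (Nat.cast_nonneg _)
      _ ≤ Nat.card G := by exact_mod_cast Nat.le_of_dvd Nat.card_pos hdvd
  exact partition_arith (n i) (e i) (h i) (Nat.card G) (by exact_mod_cast hn2 i)
    (by exact_mod_cast he3 i) (by exact_mod_cast hhen i) hgle htot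

end CfsgLib.OddOrder
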